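import Cfsg.Agent.Lib.LargeFischer.Coord.Defs

/-!
Counts of orthogonal singular vectors.
-/

set_option autoImplicit false
set_option maxRecDepth 100000

namespace Cfsg.Agent.LFRep

theorem count_ok : ∀ i j : Fin 5,
    ((List.range 4096).filter fun n => singN n && clsN n == (j : ℕ) && orthN (repN i) n).length =
      countTab i j := by decide +kernel

theorem class_sizes : ∀ j : Fin 5,
    ((List.range 4096).filter fun n => singN n && clsN n == (j : ℕ)).length =
      [135, 1215, 243, 243, 243].getD j 0 := by
  decide +kernel

theorem two_eq : ((List.range 4096).filter fun n => singN n && clsN n == 0) = MonoData.two := by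
  decide +kernel

theorem tab_ok : ∀ k < 2079, entOK k = true := by decide +kernel

theorem pos_ok : ∀ n < 4096, singN n = true → posN n < 2079 ∧ entCode (posN n) = n := by decide +kernel

/-- The 0-1 vectors of odd weight with 105 orthogonal vectors of weight two have weight one. -/
theorem mask_count : ∀ m : Fin 64, wtN (maskN m) % 2 = 1 →
    ((MonoData.two.filter (orthN (maskN m))).length = 105 ↔ wtN (maskN m) = 1) := by
  decide +kernel

end Cfsg.Agent.LFRep
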