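import Cfsg.Agent.Lib.LargeFischer.Coord.Defs

/-!
Equitable partitions of the five classes.
-/

set_option autoImplicit false
set_option maxRecDepth 100000

namespace Cfsg.Agent.LFRep

/-- The possible sets of classes forming orbits: `f i` is the least class in the orbit of class `i`. -/
theorem partition_cases : ∀ f : Fin 5 → Fin 5, (∀ i, f (f i) = f i ∧ f i ≤ i) →
    (∀ i i' k, f i = f i' → ∑ j, (if f j = k then countTab i j else 0) =
      ∑ j, (if f j = k then countTab i' j else 0)) →
    (∀ i, f i = 0) ∨ (∀ i, i ≠ 0 → f i ≠ 0) ∨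
      ∃ c : ZMod 3, ∀ i, (f i = 0 ↔ i = 0 ∨ (i : ℕ) = 2 + c.val) ∧ (f i ≠ 0 → f i = 1) := by
  decide +kernel

end Cfsg.Agent.LFRep
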