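import Cfsg.Agent.Lib.LargeFischer.Coord.Defs

/-!
Codes of vectors.
-/

set_option autoImplicit false
set_option maxRecDepth 100000

namespace Cfsg.Agent.LFRep

theorem f4_val : ∀ d : Fin 4, (f4 d).1.val + 2 * (f4 d).2.val = (d : ℕ) ∧
    nz (f4 d) = Bool.toNat ((d : ℕ) != 0) ∧ lg (f4 d) = (((d : ℕ) - 1 : ℕ) : ZMod 3) := by decide +kernel

theorem f4_enc : ∀ x : F4, f4 (x.1.val + 2 * x.2.val) = x := by decide +kernel

theorem f4_xor : ∀ d e : Fin 4, f4 ((d : ℕ) ^^^ (e : ℕ)) = f4 d + f4 e := by decide +kernel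

theorem decV_zero : decV 0 = 0 := by decide +kernel

theorem digit_enc (d : ℕ) (hd : d < 4) :
    (f4 d).1.val + 2 * (f4 d).2.val = d ∧ nz (f4 d) = Bool.toNat (d != 0) ∧
      lg (f4 d) = ((d - 1 : ℕ) : ZMod 3) := f4_val ⟨d, hd⟩

theorem encV_dec (n : ℕ) (hn : n < 4096) : encV (decV n) = n := by
  have h := fun i : ℕ => (digit_enc (n / 4 ^ i % 4) (Nat.mod_lt _ (by norm_num))).1
  simp only [encV, decV, h]
  norm_num
  omega

theorem encV_lt (x : Vec) : encV x < 4096 := by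
  have h : ∀ a : ZMod 2, a.val ≤ 1 := fun a => Nat.le_of_lt_succ a.val_lt
  have := h (x 0).1; have := h (x 0).2; have := h (x 1).1; have := h (x 1).2
  have := h (x 2).1; have := h (x 2).2; have := h (x 3).1; have := h (x 3).2
  have := h (x 4).1; have := h (x 4).2; have := h (x 5).1; have := h (x 5).2
  unfold encV
  omega

theorem dec_encV (x : Vec) : decV (encV x) = x := by
  have h : ∀ a : ZMod 2, a.val ≤ 1 := fun a => Nat.le_of_lt_succ a.val_lt
  have := h (x 0).1; have := h (x 0).2; have := h (x 1).1; have := h (x 1).2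
  have := h (x 2).1; have := h (x 2).2; have := h (x 3).1; have := h (x 3).2
  have := h (x 4).1; have := h (x 4).2; have := h (x 5).1; have := h (x 5).2
  funext i
  have e : encV x / 4 ^ (i : ℕ) % 4 = (x i).1.val + 2 * (x i).2.val := by
    fin_cases i <;> simp [encV] <;> omega
  show f4 (encV x / 4 ^ (i : ℕ) % 4) = x i
  rw [e, f4_enc]

theorem decV_xor (m n : ℕ) : decV (m ^^^ n) = decV m + decV n := by
  funext i
  show f4 ((m ^^^ n) / 4 ^ (i : ℕ) % 4) = f4 (m / 4 ^ (i : ℕ) % 4) + f4 (n / 4 ^ (i : ℕ) % 4)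
  rw [show (4 : ℕ) ^ (i : ℕ) = 2 ^ (2 * (i : ℕ)) by rw [pow_mul]; norm_num, ← Nat.shiftRight_eq_div_pow,
    ← Nat.shiftRight_eq_div_pow, ← Nat.shiftRight_eq_div_pow, Nat.shiftRight_xor_distrib,
    show ((4 : ℕ)) = 2 ^ 2 from rfl, ← Nat.and_two_pow_sub_one_eq_mod, ← Nat.and_two_pow_sub_one_eq_mod,
    ← Nat.and_two_pow_sub_one_eq_mod, Nat.and_xor_distrib_right]
  exact f4_xor ⟨_, Nat.and_lt_two_pow (n := 2) _ (by norm_num)⟩ ⟨_, Nat.and_lt_two_pow (n := 2) _ (by norm_num)⟩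

theorem wt_decV (n : ℕ) : wt (decV n) = wtN n := by
  simp only [wt, wtN, decV, (digit_enc _ (Nat.mod_lt _ (by norm_num : 0 < 4))).2.1]
  norm_num

theorem cls_decV (n : ℕ) : (cls (decV n) : ℕ) = clsN n := by
  rw [cls, wt_decV, clsN]
  have e : lg (decV n 0) + lg (decV n 1) + lg (decV n 2) + lg (decV n 3) + lg (decV n 4) +
      lg (decV n 5) = ((lgN n : ℕ) : ZMod 3) := by
    simp only [lgN, decV, (digit_enc _ (Nat.mod_lt _ (by norm_num : 0 < 4))).2.2, Nat.cast_add]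
    norm_num
  rw [e, ← ZMod.natCast_mod (lgN n)]
  have key : ∀ r : Fin 3, ((if ((r : ℕ) : ZMod 3) = 0 then (2 : Fin 5) else
      if ((r : ℕ) : ZMod 3) = 1 then 3 else 4 : Fin 5) : ℕ) = 2 + (r : ℕ) := by decide +kernel
  by_cases h1 : wtN n = 2
  · rw [if_pos h1, if_pos h1]; rfl
  rw [if_neg h1, if_neg h1]
  by_cases h2 : wtN n = 4
  · rw [if_pos h2, if_pos h2]; rfl
  rw [if_neg h2, if_neg h2]
  exact key ⟨lgN n % 3, Nat.mod_lt _ (by norm_num)⟩

end Cfsg.Agent.LFRep
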