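import Cfsg.Agent.Lib.LargeFischer.MonoData
import Mathlib.GroupTheory.SpecificGroups.Alternating
import Mathlib.Algebra.BigOperators.Fin
import Mathlib.Data.ZMod.Basic
import Mathlib.Tactic

/-!
Six coordinates over the field with four elements: definitions.
-/

set_option autoImplicit false
set_option maxRecDepth 100000

namespace Cfsg.Agent.LFRep

/-- The field with four elements, additively. -/
abbrev F4 := ZMod 2 × ZMod 2

/-- Six coordinates. -/
abbrev Vec := Fin 6 → F4

/-- Multiplication by `ω`. -/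
def tw (x : F4) : F4 := (x.2, x.1 + x.2)

/-- Multiplication by a power of `ω`. -/
def zs (a : ZMod 3) (x : F4) : F4 := if a = 0 then x else if a = 1 then tw x else tw (tw x)

/-- Scalar multiplication by a power of `ω`. -/
def zsV (a : ZMod 3) (x : Vec) : Vec := fun i => zs a (x i)

/-- A monomial map. -/
def mono (σ : Equiv.Perm (Fin 6)) (a : Fin 6 → ZMod 3) (x : Vec) : Vec :=
  fun i => zs (a i) (x (σ.symm i))

/-- Weight one or zero in a coordinate. -/
def nz (x : F4) : ℕ := if x = 0 then 0 else 1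

/-- The weight. -/
def wt (x : Vec) : ℕ := nz (x 0) + nz (x 1) + nz (x 2) + nz (x 3) + nz (x 4) + nz (x 5)

/-- The quadratic form. -/
def qf (x : Vec) : ZMod 2 := (wt x : ZMod 2)

/-- The polar form. -/
def bf (x y : Vec) : ZMod 2 := qf (x + y) + qf x + qf y

/-- The logarithm of a nonzero element. -/
def lg (x : F4) : ZMod 3 := if x = (0, 1) then 1 else if x = (1, 1) then 2 else 0

/-- The class of a singular nonzero vector. -/
def cls (x : Vec) : Fin 5 :=
  if wt x = 2 then 0 else if wt x = 4 then 1 else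
    if lg (x 0) + lg (x 1) + lg (x 2) + lg (x 3) + lg (x 4) + lg (x 5) = 0 then 2 else
      if lg (x 0) + lg (x 1) + lg (x 2) + lg (x 3) + lg (x 4) + lg (x 5) = 1 then 3 else 4

/-- The element with a code below four. -/
def f4 (d : ℕ) : F4 := (if d % 2 = 1 then 1 else 0, if d / 2 % 2 = 1 then 1 else 0)

/-- The vector with a code. -/
def decV (n : ℕ) : Vec := fun i => f4 (n / 4 ^ (i : ℕ) % 4)

/-- The code of a vector. -/
def encV (x : Vec) : ℕ :=
  (x 0).1.val + 2 * (x 0).2.val + 4 * ((x 1).1.val + 2 * (x 1).2.val) +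
    16 * ((x 2).1.val + 2 * (x 2).2.val) + 64 * ((x 3).1.val + 2 * (x 3).2.val) +
    256 * ((x 4).1.val + 2 * (x 4).2.val) + 1024 * ((x 5).1.val + 2 * (x 5).2.val)

/-- The weight of a code. -/
def wtN (n : ℕ) : ℕ :=
  Bool.toNat (n % 4 != 0) + Bool.toNat (n / 4 % 4 != 0) + Bool.toNat (n / 16 % 4 != 0) +
    Bool.toNat (n / 64 % 4 != 0) + Bool.toNat (n / 256 % 4 != 0) + Bool.toNat (n / 1024 % 4 != 0)

/-- Orthogonality of codes. -/
def orthN (m n : ℕ) : Bool := (wtN (m ^^^ n) + wtN m + wtN n) % 2 == 0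

/-- The sum of the logarithms of a code. -/
def lgN (n : ℕ) : ℕ :=
  (n % 4 - 1) + (n / 4 % 4 - 1) + (n / 16 % 4 - 1) + (n / 64 % 4 - 1) + (n / 256 % 4 - 1) +
    (n / 1024 % 4 - 1)

/-- The class of a code. -/
def clsN (n : ℕ) : ℕ := if wtN n = 2 then 0 else if wtN n = 4 then 1 else 2 + lgN n % 3

/-- Whether a code is singular and nonzero. -/
def singN (n : ℕ) : Bool := n != 0 && wtN n % 2 == 0

/-- The code of representative `c`. -/
def repN (c : Fin 5) : ℕ := [5, 85, 1365, 2389, 3413].getD c 0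

/-- Representative `c`. -/
def rep (c : Fin 5) : Vec := decV (repN c)

/-- The generating permutations. -/
def genPerm (g : Fin 4) : Equiv.Perm (Fin 6) :=
  if g = 0 then ⟨![1, 2, 3, 4, 0, 5], ![4, 0, 1, 2, 3, 5], by decide, by decide⟩
  else if g = 1 then ⟨![0, 1, 2, 4, 5, 3], ![0, 1, 2, 5, 3, 4], by decide, by decide⟩
  else if g = 2 then ⟨![1, 2, 0, 3, 4, 5], ![2, 0, 1, 3, 4, 5], by decide, by decide⟩
  else 1

/-- The generating scalars. -/
def genScal (g : Fin 4) : Fin 6 → ZMod 3 := if g = 3 then ![1, 2, 0, 0, 0, 0] else 0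

/-- The code at entry `k`. -/
def entCode (k : ℕ) : ℕ := (MonoData.tab >>> (32 * k)) % 4096

/-- The parent of entry `k`. -/
def entPar (k : ℕ) : ℕ := (MonoData.tab >>> (32 * k + 12)) % 4096

/-- The generator at entry `k`. -/
def entGen (k : ℕ) : Fin 4 := Fin.ofNat 4 (MonoData.tab >>> (32 * k + 24))

/-- The entry of a code. -/
def posN (n : ℕ) : ℕ := (MonoData.pos >>> (12 * n)) % 4096

/-- One entry is correct. -/
def entOK (k : ℕ) : Bool :=
  decide (entCode k < 4096) &&
    if entPar k = 4095 then entCode k == repN (Fin.ofNat 5 (clsN (entCode k))) else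
      decide (entPar k < k) && clsN (entCode (entPar k)) == clsN (entCode k) &&
        encV (mono (genPerm (entGen k)) (genScal (entGen k)) (decV (entCode (entPar k)))) == entCode k

/-- The number of singular nonzero vectors of class `j` orthogonal to representative `i`. -/
def countTab (i j : Fin 5) : ℕ :=
  [[83, 567, 135, 135, 135], [63, 623, 123, 123, 123], [75, 615, 143, 111, 111],
    [75, 615, 111, 143, 111], [75, 615, 111, 111, 143]].getD i [] |>.getD j 0

/-- The code of the zero-one vector with a given support. -/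
def maskN (m : Fin 64) : ℕ :=
  (m : ℕ) % 2 + 4 * ((m : ℕ) / 2 % 2) + 16 * ((m : ℕ) / 4 % 2) + 64 * ((m : ℕ) / 8 % 2) +
    256 * ((m : ℕ) / 16 % 2) + 1024 * ((m : ℕ) / 32 % 2)

end Cfsg.Agent.LFRep
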